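import Mathlib.GroupTheory.Index
import Mathlib.GroupTheory.QuotientGroup.Basic
import Mathlib.LinearAlgebra.LinearIndependent.Lemmas
import Mathlib.LinearAlgebra.LinearIndependent.Basic
import Mathlib.LinearAlgebra.Dimension.Constructions
import Mathlib.LinearAlgebra.FiniteDimensional.Lemmas
import Mathlib.Algebra.Group.Units.Hom
import Mathlib.Order.Preorder.Finite
import Mathlib.Data.SetLike.Fintype
import Mathlib.GroupTheory.Subgroup.Center

/-!
# Nondegenerate alternating bicharacters

If an alternating bicharacter of a finite group has radical `Z` then `Z` has square index.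
-/

set_option autoImplicit false

namespace CfsgLib.FpfModule

variable {F : Type*} [Field F]

/-- A finite group has at most as many linear characters as elements. -/
theorem natCard_hom_le (A : Type*) [Group A] [Finite A] : Nat.card (A →* Fˣ) ≤ Nat.card A := by
  classical
  let _ : Fintype A := Fintype.ofFinite A
  have hinj : Function.Injective fun f : A →* Fˣ => (Units.coeHom F).comp f := fun f g h =>
    MonoidHom.ext fun a => Units.ext (DFunLike.congr_fun h a)
  have hli : LinearIndependent F fun f : A →* Fˣ => (((Units.coeHom F).comp f : A →* F) : A → F) :=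
    (linearIndependent_monoidHom A F).comp _ hinj
  have hfin : Finite (A →* Fˣ) := hli.finite
  let _ : Fintype (A →* Fˣ) := Fintype.ofFinite _
  have h := hli.fintype_card_le_finrank
  rw [Module.finrank_fintype_fun_eq_card] at h
  rwa [Nat.card_eq_fintype_card, Nat.card_eq_fintype_card]

variable {K : Type*} [Group K] [Finite K] (β : K →* K →* Fˣ)

omit [Finite K] in
/-- Kernel bound: `[K : ker f] ≤ [A : N]` when `f` takes values in characters of `A` killing `N`. -/
theorem index_ker_le {A : Type*} [Group A] [Finite A] (f : K →* A →* Fˣ) (N : Subgroup A) [N.Normal]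
    (hN : ∀ k, N ≤ (f k).ker) : f.ker.index ≤ N.index := by
  rw [Subgroup.index_ker]
  refine le_trans ?_ (natCard_hom_le (F := F) (A ⧸ N))
  have hfin : Finite ((A ⧸ N) →* Fˣ) := by
    classical
    exact ((linearIndependent_monoidHom (A ⧸ N) F).comp
      (fun g : (A ⧸ N) →* Fˣ => (Units.coeHom F).comp g) fun g g' h =>
      MonoidHom.ext fun a => Units.ext (DFunLike.congr_fun h a)).finite
  refine Nat.card_le_card_of_injective
    (fun g : f.range => QuotientGroup.lift N g.1 (by obtain ⟨k, hk⟩ := g.2; rw [← hk]; exact hN k))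
    fun g g' h => Subtype.ext (MonoidHom.ext fun a => ?_)
  exact DFunLike.congr_fun h (a : A ⧸ N)

/-- The radical of an alternating bicharacter has square index. -/
theorem exists_index_eq_sq (halt : ∀ a, β a a = 1) :
    ∃ m : ℕ, β.ker.index = m ^ 2 := by
  classical
  set Z := β.ker
  have hskew : ∀ a b, β a b * β b a = 1 := fun a b => by
    have h := halt (a * b)
    rwa [map_mul β, MonoidHom.mul_apply, map_mul (β a), map_mul (β b), halt, halt, one_mul, mul_one] at h
  obtain ⟨L, ⟨hZL, hL⟩, hmax⟩ := Set.Finite.exists_maximalFor id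
    {L : Subgroup K | Z ≤ L ∧ ∀ a ∈ L, ∀ b ∈ L, β a b = 1} (Set.toFinite _)
    ⟨Z, le_rfl, fun a ha b _ => by rw [MonoidHom.mem_ker.mp ha, MonoidHom.one_apply]⟩
  have hperp : ∀ a, (∀ b ∈ L, β a b = 1) → a ∈ L := by
    intro a ha
    have hiso : ∀ u ∈ L ⊔ Subgroup.zpowers a, ∀ v ∈ L ⊔ Subgroup.zpowers a, β u v = 1 := by
      have h1 : ∀ u, (∀ b ∈ L, β u b = 1) → β u a = 1 →
          ∀ v ∈ L ⊔ Subgroup.zpowers a, β u v = 1 := by
        intro u hu hua v hv
        have hle : L ⊔ Subgroup.zpowers a ≤ (β u).ker :=
          sup_le (fun b hb => hu b hb) (Subgroup.zpowers_le.mpr hua)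
        exact hle hv
      intro u hu v hv
      have hu' : (L ⊔ Subgroup.zpowers a) ≤ (β.flip v).ker := by
        refine sup_le (fun b hb => ?_) (Subgroup.zpowers_le.mpr ?_)
        · refine h1 b (hL b hb) ?_ v hv
          have := hskew a b
          rwa [ha b hb, one_mul] at this
        · exact h1 a ha (halt a) v hv
      exact hu' hu
    exact hmax ⟨hZL.trans le_sup_left, hiso⟩ (le_sup_left : L ≤ _)
      (Subgroup.mem_sup_right (Subgroup.mem_zpowers a))
  let f : K →* L →* Fˣ :=
    { toFun := fun a => (β a).comp L.subtype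
      map_one' := by ext; simp
      map_mul' := fun a b => by ext; simp }
  have hf : f.ker = L := by
    ext a
    rw [MonoidHom.mem_ker]
    exact ⟨fun h => hperp a fun b hb => DFunLike.congr_fun h ⟨b, hb⟩,
      fun ha => MonoidHom.ext fun b => hL a ha b b.2⟩
  have hLn : L.Normal := hf ▸ inferInstance
  have h1 : L.index ≤ (Z.subgroupOf L).index := by
    conv_lhs => rw [← hf]
    refine index_ker_le f (Z.subgroupOf L) fun a b hb => ?_
    have hz : β (b : K) = 1 := Subgroup.mem_subgroupOf.mp hb
    show β a b = 1
    have := hskew a b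
    rwa [hz, MonoidHom.one_apply, mul_one] at this
  let g : L →* K →* Fˣ := β.comp L.subtype
  have hg : g.ker = Z.subgroupOf L := by
    ext a; rw [MonoidHom.mem_ker, Subgroup.mem_subgroupOf, MonoidHom.mem_ker]; rfl
  have h2 : (Z.subgroupOf L).index ≤ L.index := by
    rw [← hg]
    exact index_ker_le g L fun a b hb => hL a a.2 b hb
  refine ⟨L.index, ?_⟩
  rw [← Subgroup.relIndex_mul_index hZL, Subgroup.relIndex, le_antisymm h2 h1, sq]

end CfsgLib.FpfModule
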