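import Mathlib.GroupTheory.Perm.Cycle.Basic
import Mathlib.Data.Nat.Prime.Basic
import Mathlib.Data.Fintype.BigOperators
import Mathlib.Tactic.Ring

/-!
# Representatives for the orbits of a permutation of prime order with one fixed point
-/

set_option autoImplicit false

namespace CfsgLib.FpfModule

theorem exists_representatives {α : Type*} [Fintype α] [DecidableEq α] (φ : Equiv.Perm α) (o : α) {r : ℕ}
    (hr : r.Prime) (hφ : φ ^ r = 1) (ho : φ o = o) (hfix : ∀ a, φ a = a → a = o) :
    ∃ R : Finset α, (∀ a, ∃ t ∈ R, ∃ i : ℕ, a = (φ ^ i) t) ∧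
      R.card * r ≤ Fintype.card α - 1 + r := by
  classical
  let S : Setoid α := Equiv.Perm.SameCycle.setoid φ
  let out : α → α := fun a => Quotient.out (Quotient.mk S a)
  have hout : ∀ a, φ.SameCycle (out a) a := fun a => Quotient.mk_out (s := S) a
  let R : Finset α := Finset.univ.image out
  have hcanon : ∀ t ∈ R, ∀ s ∈ R, φ.SameCycle t s → t = s := by
    intro t ht s hs h
    obtain ⟨a, -, rfl⟩ := Finset.mem_image.mp ht
    obtain ⟨c, -, rfl⟩ := Finset.mem_image.mp hs
    exact congrArg Quotient.out (Quotient.sound (s := S) (((hout a).symm.trans h).trans (hout c)))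
  refine ⟨R, fun a => ⟨out a, Finset.mem_image_of_mem _ (Finset.mem_univ a), ?_⟩, ?_⟩
  · obtain ⟨i, hi⟩ := (hout a).exists_nat_pow_eq
    exact ⟨i, hi.symm⟩
  have key : ∀ (d : ℕ) (t : α), ¬ r ∣ d → (φ ^ d) t = t → t = o := by
    intro d t hd ht
    apply hfix
    have hall : ∀ m, (φ ^ (d * m)) t = t := by
      intro m
      induction m with
      | zero => rfl
      | succ m ih => rw [Nat.mul_succ, pow_add, Equiv.Perm.mul_apply, ht, ih]
    obtain ⟨m, hm⟩ := Nat.exists_mul_mod_eq_one_of_coprime
      ((hr.coprime_iff_not_dvd.mpr hd).symm) hr.one_lt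
    have h := hall m
    rw [pow_eq_pow_mod _ hφ, hm.2, pow_one] at h
    exact h
  have hinj : ∀ x ∈ (R.erase o ×ˢ Finset.range r), ∀ y ∈ (R.erase o ×ˢ Finset.range r),
      (φ ^ x.2) x.1 = (φ ^ y.2) y.1 → x = y := by
    rintro ⟨t, i⟩ hx ⟨s, j⟩ hy (h : (φ ^ i) t = (φ ^ j) s)
    simp only [Finset.mem_product, Finset.mem_erase, Finset.mem_range] at hx hy
    have hts : t = s := hcanon t hx.1.2 s hy.1.2 (by
      have h1 : φ.SameCycle t ((φ ^ i) t) := ⟨(i : ℤ), by simp⟩
      have h2 : φ.SameCycle s ((φ ^ i) t) := ⟨(j : ℤ), by simp [h]⟩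
      exact h1.trans h2.symm)
    subst hts
    have hij : i = j := by
      by_contra hne
      rcases Nat.lt_or_gt_of_ne hne with hlt | hlt
      · refine hx.1.1 (key (j - i) t (fun hd => ?_) ((φ ^ i).injective ?_))
        · have := Nat.le_of_dvd (by omega) hd; omega
        · rw [← Equiv.Perm.mul_apply, ← pow_add, Nat.add_sub_cancel' hlt.le, h]
      · refine hx.1.1 (key (i - j) t (fun hd => ?_) ((φ ^ j).injective ?_))
        · have := Nat.le_of_dvd (by omega) hd; omega
        · rw [← Equiv.Perm.mul_apply, ← pow_add, Nat.add_sub_cancel' hlt.le, h]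
    rw [hij]
  have hne : ∀ x ∈ (R.erase o ×ˢ Finset.range r), (φ ^ x.2) x.1 ∈ Finset.univ.erase o := by
    rintro ⟨t, i⟩ hx
    simp only [Finset.mem_product, Finset.mem_erase, Finset.mem_range] at hx
    refine Finset.mem_erase.mpr ⟨fun h => hx.1.1 ?_, Finset.mem_univ _⟩
    have hall : ∀ n, (φ ^ n) o = o := by
      intro n
      induction n with
      | zero => rfl
      | succ n ih => rw [pow_succ, Equiv.Perm.mul_apply, ho, ih]
    rw [← hall i] at h
    exact (φ ^ i).injective h
  have := Finset.card_le_card_of_injOn (fun x : α × ℕ => (φ ^ x.2) x.1)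
    (s := R.erase o ×ˢ Finset.range r) (t := Finset.univ.erase o) hne hinj
  rw [Finset.card_product, Finset.card_range, Finset.card_erase_of_mem (Finset.mem_univ o),
    Finset.card_univ] at this
  have h1 : R.card ≤ (R.erase o).card + 1 := by
    have := Finset.pred_card_le_card_erase (s := R) (a := o)
    omega
  calc R.card * r ≤ ((R.erase o).card + 1) * r := Nat.mul_le_mul_right r h1
    _ = (R.erase o).card * r + r := by ring
    _ ≤ _ := by omega

end CfsgLib.FpfModule
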