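import Cfsg.Agent.FpfModule.Bicharacter
import Cfsg.Agent.FpfModule.FreeOrbit
import Cfsg.Agent.OddOrder.BG3.NoFixedPoint
import Mathlib.Algebra.Order.Chebyshev

/-!
# An element of prime order without fixed points on a module of a generalized Heisenberg group

`K` is represented with scalar `Z ≥ ⁅K, K⁆` and nondegenerate commutators, `x` of prime order `r`
centralizes `Z`, acts freely on `K / Z` and `1 + x + ... + x^(r-1) = 0` on the module. Then
`[K : Z] = (r - 1) ^ 2`.
-/

set_option autoImplicit false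
set_option linter.unusedSectionVars false
set_option linter.style.haveILetI false

namespace CfsgLib.FpfModule

open CfsgLib.OddOrder (exists_eigen_basis_of_pow_eq_one)

variable {F : Type*} [Field F] [IsAlgClosed F] {M : Type*} [AddCommGroup M] [Module F M]
  [FiniteDimensional F M]

/-- Lower bound for the centralizer of an operator without the eigenvalue `1`. -/
theorem sq_finrank_le {s : Module.End F M} {r : ℕ} [NeZero r] (hrF : (r : F) ≠ 0) (hs : s ^ r = 1)
    (hsum : ∑ i ∈ Finset.range r, s ^ i = 0) {U : Submodule F (Module.End F M)}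
    (hU : ∀ g, s * g = g * s → g ∈ U) :
    Module.finrank F M ^ 2 ≤ (r - 1) * Module.finrank F U := by
  classical
  obtain ⟨ι, hι, b, d, hd, hdr⟩ := exists_eigen_basis_of_pow_eq_one hrF hs
  have hd1 : ∀ i, d i ≠ 1 := by
    intro i h
    have hp : ∀ n, (s ^ n) (b i) = b i := by
      intro n
      induction n with
      | zero => rfl
      | succ n ih => rw [pow_succ, Module.End.mul_apply, hd, h, one_smul, ih]
    have h0 := LinearMap.congr_fun hsum (b i)
    rw [LinearMap.sum_apply, Finset.sum_congr rfl (fun n _ => hp n), Finset.sum_const,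
      Finset.card_range, LinearMap.zero_apply, ← Nat.cast_smul_eq_nsmul F, smul_eq_zero] at h0
    rcases h0 with h0 | h0
    · exact hrF h0
    · exact b.ne_zero i h0
  haveI : NeZero (r : F) := ⟨hrF⟩
  obtain ⟨ζ, hζ⟩ := HasEnoughRootsOfUnity.exists_primitiveRoot F r
  let T : Finset F := (Polynomial.nthRootsFinset r (1 : F)).erase 1
  have hT : T.card = r - 1 := by
    show ((Polynomial.nthRootsFinset r (1 : F)).erase 1).card = r - 1
    rw [Finset.card_erase_of_mem ((Polynomial.mem_nthRootsFinset (NeZero.pos r) 1).mpr (one_pow r)),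
      hζ.card_nthRootsFinset]
  have hdT : ∀ i ∈ (Finset.univ : Finset ι), d i ∈ T := fun i _ =>
    Finset.mem_erase.mpr ⟨hd1 i, (Polynomial.mem_nthRootsFinset (NeZero.pos r) 1).mpr (hdr i)⟩
  let P := {x : ι × ι // d x.1 = d x.2}
  let E : P → U := fun x => ⟨b.end x.1, hU _ (b.ext fun k => by
    rw [Module.End.mul_apply, Module.End.mul_apply, Module.Basis.end_apply_apply, hd, map_smul,
      Module.Basis.end_apply_apply]
    split_ifs with h
    · rw [hd, x.2, h]
    · simp)⟩
  have hli : LinearIndependent F E := LinearIndependent.of_comp U.subtype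
    (b.end.linearIndependent.comp _ Subtype.val_injective)
  have h1 := hli.fintype_card_le_finrank
  let m : F → ℕ := fun t => (Finset.univ.filter fun i => d i = t).card
  have hPc : Fintype.card P = ∑ t ∈ T, m t ^ 2 := by
    rw [Fintype.card_subtype, Finset.card_eq_sum_card_fiberwise (f := fun x => d x.1) (t := T)
      (fun x _ => hdT x.1 (Finset.mem_univ _))]
    refine Finset.sum_congr rfl fun t _ => ?_
    show _ = ((Finset.univ.filter fun i => d i = t).card) ^ 2
    rw [sq, ← Finset.card_product]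
    congr 1
    ext ⟨i, j⟩
    simp only [Finset.mem_filter, Finset.mem_univ, true_and, Finset.mem_product]
    exact ⟨fun h => ⟨h.2, h.1 ▸ h.2⟩, fun h => ⟨h.1.trans h.2.symm, h.1⟩⟩
  have hιc : Module.finrank F M = ∑ t ∈ T, m t := by
    rw [Module.finrank_eq_card_basis b, ← Finset.card_univ,
      Finset.card_eq_sum_card_fiberwise (f := d) (t := T) hdT]
  calc Module.finrank F M ^ 2 = (∑ t ∈ T, m t) ^ 2 := by rw [hιc]
    _ ≤ T.card * ∑ t ∈ T, m t ^ 2 := sq_sum_le_card_mul_sum_sq
    _ ≤ (r - 1) * Module.finrank F U := by rw [hT, ← hPc]; exact Nat.mul_le_mul_left _ h1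

variable [Nontrivial M] {G : Type*} [Group G] [Finite G] (ρ : G →* Module.End F M)

theorem rep_smul_injective {g : G} {c c' : F} (h : c • ρ g = c' • ρ g) : c = c' := by
  obtain ⟨m, hm⟩ := exists_ne (0 : M)
  have h' := congrArg (fun z => (z * ρ g⁻¹ : Module.End F M) m) h
  simp only [smul_mul_assoc, ← map_mul, mul_inv_cancel, map_one, LinearMap.smul_apply,
    Module.End.one_apply] at h'
  exact smul_left_injective F hm h'

/-- The scalar by which `u` moves `a`. -/
noncomputable def scal (u a : G) : F :=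
  letI := Classical.propDecidable (∃ c : F, ρ u * ρ a * ρ u⁻¹ = c • ρ a)
  if h : ∃ c : F, ρ u * ρ a * ρ u⁻¹ = c • ρ a then h.choose else 0

variable (K Z : Subgroup G)

/-- The scalar hypothesis. -/
structure ScalarCentre : Prop where
  le : Z ≤ K
  comm : ∀ a ∈ K, ∀ b ∈ K, a * b * a⁻¹ * b⁻¹ ∈ Z
  scalar : ∀ z ∈ Z, ∃ c : F, ρ z = c • 1

variable {ρ K Z}

theorem ScalarCentre.scal_spec (H : ScalarCentre ρ K Z) {u a : G} (hu : u ∈ K) (ha : a ∈ K) :
    ρ u * ρ a * ρ u⁻¹ = scal ρ u a • ρ a ∧ ρ (u * a * u⁻¹ * a⁻¹) = scal ρ u a • 1 := by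
  obtain ⟨c, hc⟩ := H.scalar _ (H.comm u hu a ha)
  have he : ∃ c : F, ρ u * ρ a * ρ u⁻¹ = c • ρ a := by
    refine ⟨c, ?_⟩
    rw [← map_mul, ← map_mul, show u * a * u⁻¹ = (u * a * u⁻¹ * a⁻¹) * a by group, map_mul, hc,
      smul_mul_assoc, one_mul]
  have hs : ρ u * ρ a * ρ u⁻¹ = scal ρ u a • ρ a := by
    rw [scal, dif_pos he]; exact he.choose_spec
  refine ⟨hs, ?_⟩
  rw [map_mul, map_mul, map_mul, hs, smul_mul_assoc, ← map_mul, mul_inv_cancel, map_one]

theorem ScalarCentre.scal_eq (H : ScalarCentre ρ K Z) {u a : G} (hu : u ∈ K) (ha : a ∈ K) {c : F}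
    (h : ρ u * ρ a * ρ u⁻¹ = c • ρ a) : scal ρ u a = c :=
  rep_smul_injective ρ ((H.scal_spec hu ha).1.symm.trans h)

theorem ScalarCentre.scal_mul_right (H : ScalarCentre ρ K Z) {u a b : G} (hu : u ∈ K) (ha : a ∈ K)
    (hb : b ∈ K) : scal ρ u (a * b) = scal ρ u a * scal ρ u b := by
  refine H.scal_eq hu (K.mul_mem ha hb) ?_
  rw [show ρ u * ρ (a * b) * ρ u⁻¹ = (ρ u * ρ a * ρ u⁻¹) * (ρ u * ρ b * ρ u⁻¹) by
    simp only [← map_mul]; congr 1; group, (H.scal_spec hu ha).1, (H.scal_spec hu hb).1,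
    smul_mul_assoc, mul_smul_comm, smul_smul, map_mul]

theorem ScalarCentre.scal_mul_left (H : ScalarCentre ρ K Z) {u v a : G} (hu : u ∈ K) (hv : v ∈ K)
    (ha : a ∈ K) : scal ρ (u * v) a = scal ρ u a * scal ρ v a := by
  refine H.scal_eq (K.mul_mem hu hv) ha ?_
  rw [show ρ (u * v) * ρ a * ρ (u * v)⁻¹ = ρ u * (ρ v * ρ a * ρ v⁻¹) * ρ u⁻¹ by
    simp only [← map_mul]; congr 1; group, (H.scal_spec hv ha).1, mul_smul_comm, smul_mul_assoc,
    (H.scal_spec hu ha).1, smul_smul, mul_comm]

theorem ScalarCentre.scal_self (H : ScalarCentre ρ K Z) {u : G} (hu : u ∈ K) : scal ρ u u = 1 :=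
  H.scal_eq hu hu (by rw [one_smul, ← map_mul, ← map_mul, mul_inv_cancel_right])

theorem ScalarCentre.scal_one_left (H : ScalarCentre ρ K Z) {a : G} (ha : a ∈ K) :
    scal ρ 1 a = 1 :=
  H.scal_eq K.one_mem ha (by rw [one_smul, inv_one, map_one, one_mul, mul_one])

theorem ScalarCentre.scal_one_right (H : ScalarCentre ρ K Z) {u : G} (hu : u ∈ K) :
    scal ρ u 1 = 1 :=
  H.scal_eq hu K.one_mem (by rw [one_smul, map_one, mul_one, ← map_mul, mul_inv_cancel, map_one])

theorem ScalarCentre.scal_ne_zero (H : ScalarCentre ρ K Z) {u a : G} (hu : u ∈ K) (ha : a ∈ K) :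
    scal ρ u a ≠ 0 := fun h => by
  have h1 := H.scal_mul_left hu (K.inv_mem hu) ha
  rw [mul_inv_cancel, H.scal_one_left ha, h, zero_mul] at h1
  exact one_ne_zero h1

theorem ScalarCentre.scal_of_mem (H : ScalarCentre ρ K Z) {z a : G} (hz : z ∈ Z) (ha : a ∈ K) :
    scal ρ z a = 1 ∧ scal ρ a z = 1 := by
  obtain ⟨c, hc⟩ := H.scalar z hz
  have hcomm : ρ z * ρ a = ρ a * ρ z := by rw [hc]; simp
  constructor
  · exact H.scal_eq (H.le hz) ha (by
      rw [one_smul, hcomm, mul_assoc, ← map_mul, mul_inv_cancel, map_one, mul_one])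
  · exact H.scal_eq ha (H.le hz) (by
      rw [one_smul, ← hcomm, mul_assoc, ← map_mul, mul_inv_cancel, map_one, mul_one])

/-- The projection onto the operators moved by the character of `a`. -/
noncomputable def proj (ρ : G →* Module.End F M) (K : Subgroup G) [Fintype K] (a : G) :
    Module.End F (Module.End F M) :=
  ∑ u : K, (scal ρ (u : G) a)⁻¹ • (LinearMap.mulLeft F (ρ (u : G))).comp
    (LinearMap.mulRight F (ρ (u : G)⁻¹))

theorem proj_apply [Fintype K] (a : G) (g : Module.End F M) :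
    proj ρ K a g = ∑ u : K, (scal ρ (u : G) a)⁻¹ • (ρ (u : G) * (g * ρ (u : G)⁻¹)) := by
  simp [proj, LinearMap.sum_apply]

/-- The operators commuting with `K`. -/
def commOps (ρ : G →* Module.End F M) (K : Subgroup G) : Submodule F (Module.End F M) :=
  ⨅ u : K, LinearMap.ker ((LinearMap.mulLeft F (ρ (u : G))) - (LinearMap.mulRight F (ρ (u : G))))

theorem mem_commOps {g : Module.End F M} : g ∈ commOps ρ K ↔ ∀ u ∈ K, ρ u * g = g * ρ u := by
  simp [commOps, Submodule.mem_iInf, LinearMap.mem_ker, sub_eq_zero]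

theorem ScalarCentre.mem_commOps_proj (H : ScalarCentre ρ K Z) [Fintype K] {a : G} (ha : a ∈ K)
    (g : Module.End F M) : ρ a⁻¹ * proj ρ K a g ∈ commOps ρ K := by
  rw [mem_commOps]
  intro v hv
  have hmove : ρ v * proj ρ K a g * ρ v⁻¹ = scal ρ v a • proj ρ K a g := by
    rw [proj_apply, Finset.mul_sum, Finset.sum_mul, Finset.smul_sum]
    refine Fintype.sum_equiv (Equiv.mulLeft (⟨v, hv⟩ : K)) _ _ fun u => ?_
    rw [mul_smul_comm, smul_mul_assoc, smul_smul]
    simp only [Equiv.coe_mulLeft, Subgroup.coe_mul]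
    rw [H.scal_mul_left hv u.2 ha, mul_inv, mul_inv_cancel_left₀ (H.scal_ne_zero hv ha),
      mul_inv_rev, map_mul, map_mul]
    simp only [mul_assoc]
  have h1 : scal ρ v a⁻¹ * scal ρ v a = 1 := by
    rw [← H.scal_mul_right hv (K.inv_mem ha) ha, inv_mul_cancel, H.scal_one_right hv]
  calc ρ v * (ρ a⁻¹ * proj ρ K a g)
      = (ρ v * ρ a⁻¹ * ρ v⁻¹) * (ρ v * proj ρ K a g * ρ v⁻¹) * ρ v := by
        simp only [mul_assoc]
        rw [← map_mul ρ v⁻¹ v, inv_mul_cancel, map_one, mul_one, ← mul_assoc (ρ v⁻¹) (ρ v),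
          ← map_mul ρ v⁻¹ v, inv_mul_cancel, map_one, one_mul]
    _ = ρ a⁻¹ * proj ρ K a g * ρ v := by
        rw [hmove, (H.scal_spec hv (K.inv_mem ha)).1, smul_mul_assoc, mul_smul_comm, smul_smul, h1,
          one_smul]

theorem ScalarCentre.proj_self (H : ScalarCentre ρ K Z) [Fintype K] {a : G} (ha : a ∈ K)
    {f : Module.End F M} (hf : f ∈ commOps ρ K) (b : G) :
    proj ρ K b (ρ a * f) = (∑ u : K, (scal ρ (u : G) b)⁻¹ * scal ρ (u : G) a) • (ρ a * f) := by
  rw [proj_apply, Finset.sum_smul]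
  refine Finset.sum_congr rfl fun u _ => ?_
  rw [← smul_smul]
  congr 1
  rw [mem_commOps] at hf
  rw [mul_assoc (ρ a) f, ← hf _ (K.inv_mem u.2), ← mul_assoc (ρ a), ← mul_assoc (ρ (u : G)),
    ← mul_assoc (ρ (u : G)), (H.scal_spec u.2 ha).1, smul_mul_assoc]

/-- The main bound. -/
theorem exists_index_eq (ρ : G →* Module.End F M) (K Z : Subgroup G) (x : G) {r : ℕ}
    (hr : r.Prime) (hrF : (r : F) ≠ 0) (hKF : (Nat.card K : F) ≠ 0) (hxr : x ^ r = 1)
    (hsum : ∑ i ∈ Finset.range r, ρ (x ^ i) = 0)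
    (hxK : ∀ k ∈ K, x * k * x⁻¹ ∈ K) (hne : Z ≠ K) (H : ScalarCentre ρ K Z)
    (hxZ : ∀ z ∈ Z, x * z = z * x)
    (hfree : ∀ k ∈ K, k⁻¹ * (x * k * x⁻¹) ∈ Z → k ∈ Z)
    (hnd : ∀ k ∈ K, k ∉ Z → ∃ y ∈ K, ρ (y * k * y⁻¹ * k⁻¹) ≠ 1) :
    ∃ m : ℕ, r = m + 1 ∧ (Z.subgroupOf K).index = m ^ 2 := by
  classical
  haveI : NeZero r := ⟨hr.ne_zero⟩
  let _ : Fintype K := Fintype.ofFinite K
  -- the bicharacter
  have hnd' : ∀ k ∈ K, k ∉ Z → ∃ y ∈ K, scal ρ y k ≠ 1 := fun k hk hkZ => by
    obtain ⟨y, hy, h⟩ := hnd k hk hkZ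
    exact ⟨y, hy, fun h1 => h (by rw [(H.scal_spec hy hk).2, h1, one_smul])⟩
  have hskew : ∀ u ∈ K, ∀ a ∈ K, scal ρ u a * scal ρ a u = 1 := fun u hu a ha => by
    have h := H.scal_self (K.mul_mem hu ha)
    rwa [H.scal_mul_left hu ha (K.mul_mem hu ha), H.scal_mul_right hu hu ha,
      H.scal_mul_right ha hu ha, H.scal_self hu, H.scal_self ha, one_mul, mul_one] at h
  let β : K →* K →* Fˣ :=
    { toFun := fun u =>
        { toFun := fun a => Units.mk0 (scal ρ u a) (H.scal_ne_zero u.2 a.2)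
          map_one' := Units.ext (H.scal_one_right u.2)
          map_mul' := fun a b => Units.ext (H.scal_mul_right u.2 a.2 b.2) }
      map_one' := MonoidHom.ext fun a => Units.ext (H.scal_one_left a.2)
      map_mul' := fun u v => MonoidHom.ext fun a => Units.ext (H.scal_mul_left u.2 v.2 a.2) }
  have hker : β.ker = Z.subgroupOf K := by
    ext k
    rw [MonoidHom.mem_ker, Subgroup.mem_subgroupOf]
    refine ⟨fun h => ?_, fun h => MonoidHom.ext fun a => Units.ext (H.scal_of_mem h a.2).1⟩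
    by_contra hk
    obtain ⟨y, hy, h1⟩ := hnd' _ k.2 hk
    have h2 : scal ρ (k : G) y = 1 := by
      have := congrArg Units.val (DFunLike.congr_fun h (⟨y, hy⟩ : K))
      exact this
    have h3 := hskew y hy _ k.2
    rw [h2, mul_one] at h3
    exact h1 h3
  obtain ⟨m, hm⟩ := exists_index_eq_sq β fun a => Units.ext (H.scal_self a.2)
  rw [hker] at hm
  let ZK := Z.subgroupOf K
  haveI : ZK.Normal := by show (Z.subgroupOf K).Normal; rw [← hker]; infer_instance
  let _ : Fintype (K ⧸ ZK) := Fintype.ofFinite _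
  have hA : Fintype.card (K ⧸ ZK) = m ^ 2 := by rw [← Nat.card_eq_fintype_card]; exact hm
  have hm2 : 2 ≤ m := by
    by_contra hlt
    have hi : (Z.subgroupOf K).index = 1 := by
      have h0 := Subgroup.index_ne_zero_of_finite (H := Z.subgroupOf K)
      rw [hm] at h0 ⊢
      interval_cases m <;> simp at h0 ⊢
    exact hne (le_antisymm H.le (Subgroup.subgroupOf_eq_top.mp (Subgroup.index_eq_one.mp hi)))
  -- conjugation by `x` on the cosets
  have hpow : ∀ (n : ℕ), ∀ k ∈ K, x ^ n * k * (x ^ n)⁻¹ ∈ K := by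
    intro n
    induction n with
    | zero => intro k hk; simpa using hk
    | succ n ih =>
      intro k hk
      have : x ^ (n + 1) * k * (x ^ (n + 1))⁻¹ = x * (x ^ n * k * (x ^ n)⁻¹) * x⁻¹ := by
        rw [pow_succ']; group
      rw [this]; exact hxK _ (ih k hk)
  let cx : K →* K :=
    { toFun := fun k => ⟨x * k * x⁻¹, hxK k k.2⟩
      map_one' := Subtype.ext (by simp)
      map_mul' := fun a b => Subtype.ext (by simp [mul_assoc]) }
  let φf : K ⧸ ZK → K ⧸ ZK := QuotientGroup.map ZK ZK cx fun k hk => by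
    show x * (k : G) * x⁻¹ ∈ Z
    rw [hxZ (k : G) hk, mul_inv_cancel_right]; exact hk
  have hφinj : Function.Injective φf := by
    intro a b h
    obtain ⟨a, rfl⟩ := QuotientGroup.mk_surjective a
    obtain ⟨b, rfl⟩ := QuotientGroup.mk_surjective b
    have h' : ((cx a)⁻¹ * cx b : K) ∈ ZK := QuotientGroup.eq.mp h
    rw [← map_inv, ← map_mul] at h'
    refine QuotientGroup.eq.mpr (Subgroup.mem_subgroupOf.mpr ?_)
    have hz : x * ((a⁻¹ * b : K) : G) * x⁻¹ ∈ Z := h'
    have e : ((a⁻¹ * b : K) : G) = x * ((a⁻¹ * b : K) : G) * x⁻¹ := by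
      have h1 := hxZ _ hz
      rw [inv_mul_cancel_right] at h1
      exact (mul_left_cancel h1).symm
    rw [e]; exact hz
  let φ : Equiv.Perm (K ⧸ ZK) := Equiv.ofBijective φf (Finite.injective_iff_bijective.mp hφinj)
  have hφpow : ∀ (n : ℕ) (k : K), (φ ^ n) (k : K ⧸ ZK) =
      ((⟨x ^ n * k * (x ^ n)⁻¹, hpow n k k.2⟩ : K) : K ⧸ ZK) := by
    intro n
    induction n with
    | zero => intro k; simp
    | succ n ih =>
      intro k
      rw [pow_succ', Equiv.Perm.mul_apply, ih]
      show ((cx ⟨x ^ n * (k : G) * (x ^ n)⁻¹, _⟩ : K) : K ⧸ ZK) = _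
      congr 1
      exact Subtype.ext (by
        show x * (x ^ n * (k : G) * (x ^ n)⁻¹) * x⁻¹ = x ^ (n + 1) * (k : G) * (x ^ (n + 1))⁻¹
        rw [pow_succ']; group)
  have hφr : φ ^ r = 1 := Equiv.ext fun a => by
    obtain ⟨k, rfl⟩ := QuotientGroup.mk_surjective a
    rw [hφpow]; simp [hxr]
  obtain ⟨R, hR, hRcard⟩ := exists_representatives φ (1 : K ⧸ ZK) hr hφr
    (by show φf 1 = 1; exact map_one _) (fun a ha => by
      obtain ⟨k, rfl⟩ := QuotientGroup.mk_surjective a
      have h' : k⁻¹ * cx k ∈ ZK := QuotientGroup.eq.mp ha.symm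
      exact (QuotientGroup.eq_one_iff k).mpr (Subgroup.mem_subgroupOf.mpr (hfree k k.2 h')))
  -- `[K : Z] dim comm ≤ dim End`
  have hKsum : ∀ a ∈ K, a ∉ Z → ∑ u : K, scal ρ (u : G) a = 0 := by
    intro a ha haZ
    obtain ⟨y, hy, h1⟩ := hnd' a ha haZ
    have h := Equiv.sum_comp (Equiv.mulLeft (⟨y, hy⟩ : K)) (fun u : K => scal ρ (u : G) a)
    simp only [Equiv.coe_mulLeft, Subgroup.coe_mul] at h
    rw [Finset.sum_congr rfl fun (u : K) _ => H.scal_mul_left hy u.2 ha, ← Finset.mul_sum] at h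
    by_contra h0
    exact h1 (mul_right_cancel₀ h0 (h.trans (one_mul _).symm))
  have hup : Fintype.card (K ⧸ ZK) * Module.finrank F (commOps ρ K) ≤
      Module.finrank F (Module.End F M) := by
    let Φ : (K ⧸ ZK → commOps ρ K) →ₗ[F] Module.End F M :=
      { toFun := fun f => ∑ t : K ⧸ ZK, ρ (t.out : K) * (f t : Module.End F M)
        map_add' := fun f g => by simp [mul_add, Finset.sum_add_distrib]
        map_smul' := fun c f => by simp [Finset.smul_sum] }
    have hinj : Function.Injective Φ := by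
      rw [← LinearMap.ker_eq_bot, LinearMap.ker_eq_bot']
      intro f hf
      funext s
      have h : proj ρ K (s.out : K) (Φ f) = (Nat.card K : F) • (ρ (s.out : K) * (f s : Module.End F M)) := by
        show proj ρ K (s.out : K) (∑ t : K ⧸ ZK, ρ (t.out : K) * (f t : Module.End F M)) = _
        rw [map_sum, Finset.sum_congr rfl fun t _ => H.proj_self t.out.2 (f t).2 (s.out : K),
          Finset.sum_eq_single s]
        · congr 1
          rw [Nat.card_eq_fintype_card, ← Finset.card_univ, Finset.card_eq_sum_ones, Nat.cast_sum,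
            Nat.cast_one]
          exact Finset.sum_congr rfl fun u _ => inv_mul_cancel₀ (H.scal_ne_zero u.2 s.out.2)
        · intro t _ hts
          rw [show (∑ u : K, (scal ρ (u : G) (s.out : K))⁻¹ * scal ρ (u : G) (t.out : K)) = 0 from ?_,
            zero_smul]
          have hmem : ((s.out : K) : G)⁻¹ * (t.out : K) ∈ K := K.mul_mem (K.inv_mem s.out.2) t.out.2
          rw [← hKsum _ hmem fun h' => hts (by
            rw [← Quotient.out_eq t, ← Quotient.out_eq s]
            exact (QuotientGroup.eq.mpr (Subgroup.mem_subgroupOf.mpr h')).symm)]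
          refine Finset.sum_congr rfl fun u _ => ?_
          have h1 := H.scal_mul_right u.2 s.out.2 hmem
          rw [mul_inv_cancel_left] at h1
          rw [h1, ← mul_assoc, inv_mul_cancel₀ (H.scal_ne_zero u.2 s.out.2), one_mul]
        · intro hs; exact absurd (Finset.mem_univ s) hs
      rw [hf, map_zero, eq_comm, smul_eq_zero] at h
      have h2 := congrArg (fun z => ρ ((s.out : K) : G)⁻¹ * z) (h.resolve_left hKF)
      simp only [← mul_assoc, ← map_mul, inv_mul_cancel, map_one, one_mul, mul_zero] at h2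
      exact Subtype.ext h2
    have := LinearMap.finrank_le_finrank_of_injective hinj
    rwa [Module.finrank_pi_fintype, Finset.sum_const, Finset.card_univ, smul_eq_mul] at this
  -- the centralizer of `x`
  have hρxx : ρ x * ρ x⁻¹ = 1 ∧ ρ x⁻¹ * ρ x = 1 := by
    constructor <;> rw [← map_mul] <;> simp
  let U : Submodule F (Module.End F M) :=
    LinearMap.ker (LinearMap.mulLeft F (ρ x) - LinearMap.mulRight F (ρ x))
  have hUmem : ∀ g, g ∈ U ↔ ρ x * g = g * ρ x := fun g => by
    simp [U, LinearMap.mem_ker, sub_eq_zero]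
  have hlow := sq_finrank_le (s := ρ x) hrF (by rw [← map_pow, hxr, map_one])
    (by rw [← hsum]; exact Finset.sum_congr rfl fun i _ => (map_pow ρ x i).symm)
    (U := U) (fun g hg => (hUmem g).mpr hg)
  let cxe : K ≃ K := Equiv.ofBijective cx (Finite.injective_iff_bijective.mp fun a b h => Subtype.ext
    (mul_left_cancel (mul_right_cancel (congrArg Subtype.val h))))
  have hequiv : ∀ g ∈ U, ∀ a : K, ρ x * proj ρ K (a : G) g * ρ x⁻¹ = proj ρ K (cx a : K) g := by
    intro g hg a
    rw [hUmem] at hg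
    rw [proj_apply, proj_apply, Finset.mul_sum, Finset.sum_mul]
    refine Fintype.sum_equiv cxe _ _ fun u => ?_
    have hc : scal ρ ((cx u : K) : G) ((cx a : K) : G) = scal ρ (u : G) (a : G) := by
      refine H.scal_eq (cx u).2 (cx a).2 ?_
      show ρ (x * u * x⁻¹) * ρ (x * a * x⁻¹) * ρ (x * u * x⁻¹)⁻¹ = _ • ρ (x * a * x⁻¹)
      rw [show ρ (x * u * x⁻¹) * ρ (x * a * x⁻¹) * ρ (x * u * x⁻¹)⁻¹ =
        ρ x * (ρ u * ρ a * ρ (u : G)⁻¹) * ρ x⁻¹ by simp only [← map_mul]; congr 1; group,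
        (H.scal_spec u.2 a.2).1, mul_smul_comm, smul_mul_assoc, ← map_mul, ← map_mul]
    show ρ x * ((scal ρ (u : G) a)⁻¹ • (ρ u * (g * ρ (u : G)⁻¹))) * ρ x⁻¹ =
      (scal ρ ((cx u : K) : G) ((cx a : K) : G))⁻¹ • (ρ (x * u * x⁻¹) * (g * ρ (x * u * x⁻¹)⁻¹))
    rw [hc, mul_smul_comm, smul_mul_assoc]
    congr 1
    rw [show (x * (u : G) * x⁻¹)⁻¹ = x * (u : G)⁻¹ * x⁻¹ by group]
    simp only [map_mul, mul_assoc]
    rw [← mul_assoc g (ρ x), ← hg, mul_assoc, ← mul_assoc (ρ x⁻¹) (ρ x), hρxx.2, one_mul]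
  have hproj : ∀ (a : K) (z : K), z ∈ ZK → ∀ g, proj ρ K (a * z : K) g = proj ρ K (a : G) g :=
    fun a z hz g => by
      rw [proj_apply, proj_apply]
      refine Finset.sum_congr rfl fun u _ => ?_
      rw [Subgroup.coe_mul, H.scal_mul_right u.2 a.2 z.2,
        (H.scal_of_mem (Subgroup.mem_subgroupOf.mp hz) u.2).2, mul_one]
  have hfix : Module.finrank F U ≤ R.card * Module.finrank F (commOps ρ K) := by
    let Ψ : U →ₗ[F] (R → commOps ρ K) :=
      { toFun := fun g t => ⟨ρ ((t.1.out : K) : G)⁻¹ * proj ρ K (t.1.out : K) g,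
          H.mem_commOps_proj t.1.out.2 g⟩
        map_add' := fun g g' => by funext t; exact Subtype.ext (by simp [mul_add])
        map_smul' := fun c g => by funext t; exact Subtype.ext (by simp) }
    have hinj : Function.Injective Ψ := by
      rw [← LinearMap.ker_eq_bot, LinearMap.ker_eq_bot']
      rintro ⟨g, hg⟩ hΨ
      have h0 : ∀ a : K, proj ρ K (a : G) g = 0 := by
        intro a
        obtain ⟨t, ht, i, hi⟩ := hR (a : K ⧸ ZK)
        have h1 := congrArg (fun f : commOps ρ K => ρ ((t.out : K) : G) * (f : Module.End F M))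
          (congrFun hΨ ⟨t, ht⟩)
        simp only [Ψ, LinearMap.coe_mk, AddHom.coe_mk, ← mul_assoc, ← map_mul, mul_inv_cancel,
          map_one, one_mul, Pi.zero_apply, ZeroMemClass.coe_zero, mul_zero] at h1
        have hall : ∀ n, proj ρ K ((⟨x ^ n * (t.out : K) * (x ^ n)⁻¹, hpow n _ t.out.2⟩ : K) : G) g = 0 := by
          intro n
          induction n with
          | zero => simpa using h1
          | succ n ih =>
            have h2 := hequiv g hg ⟨x ^ n * (t.out : K) * (x ^ n)⁻¹, hpow n _ t.out.2⟩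
            rw [ih, mul_zero, zero_mul] at h2
            rw [show (⟨x ^ (n + 1) * (t.out : K) * (x ^ (n + 1))⁻¹, hpow _ _ t.out.2⟩ : K) =
              cx ⟨x ^ n * (t.out : K) * (x ^ n)⁻¹, hpow n _ t.out.2⟩ from
              Subtype.ext (by
                show x ^ (n + 1) * ((t.out : K) : G) * (x ^ (n + 1))⁻¹ =
                  x * (x ^ n * ((t.out : K) : G) * (x ^ n)⁻¹) * x⁻¹
                rw [pow_succ']; group)]
            exact h2.symm
        set k : K := ⟨x ^ i * (t.out : K) * (x ^ i)⁻¹, hpow i _ t.out.2⟩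
        have hz : k⁻¹ * a ∈ ZK := by
          apply QuotientGroup.eq.mp
          rw [hi, ← hφpow i t.out, QuotientGroup.out_eq']
        have := hproj k _ hz g
        rw [mul_inv_cancel_left] at this
        rw [this]
        exact hall i
      have hsumproj : ∑ a : K, proj ρ K (a : G) g =
          ((Nat.card ZK : F) * (Nat.card K : F)) • g := by
        simp only [proj_apply]
        rw [Finset.sum_comm]
        have hu : ∀ u : K, ∑ a : K, (scal ρ (u : G) a)⁻¹ • (ρ u * (g * ρ (u : G)⁻¹)) =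
            if u ∈ ZK then (Nat.card K : F) • g else 0 := by
          intro u
          rw [← Finset.sum_smul]
          split_ifs with hu
          · obtain ⟨c, hc⟩ := H.scalar _ (Subgroup.mem_subgroupOf.mp hu)
            rw [Finset.sum_congr rfl fun (a : K) _ => by
              rw [(H.scal_of_mem (Subgroup.mem_subgroupOf.mp hu) a.2).1, inv_one]]
            rw [Finset.sum_const, Finset.card_univ, nsmul_one, ← Nat.card_eq_fintype_card]
            congr 1
            rw [← mul_assoc, hc, smul_mul_assoc, one_mul, smul_mul_assoc, ← mul_smul_comm c g,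
              ← one_mul (ρ (u : G)⁻¹), ← smul_mul_assoc, ← hc, ← map_mul, mul_inv_cancel, map_one,
              mul_one]
          · rw [show ∑ a : K, (scal ρ (u : G) a)⁻¹ = 0 from ?_, zero_smul]
            rw [← hKsum _ u.2 fun h => hu (Subgroup.mem_subgroupOf.mpr h)]
            exact Finset.sum_congr rfl fun a _ =>
              inv_eq_of_mul_eq_one_right (hskew _ u.2 _ a.2)
        rw [Finset.sum_congr rfl fun u _ => hu u, Finset.sum_ite, Finset.sum_const_zero, add_zero,
          Finset.sum_const, ← Fintype.card_subtype, ← Nat.card_eq_fintype_card]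
        rw [← Nat.cast_smul_eq_nsmul F, smul_smul]
      rw [Finset.sum_congr rfl fun a _ => h0 a, Finset.sum_const_zero, eq_comm, smul_eq_zero,
        mul_eq_zero] at hsumproj
      obtain ⟨e, he⟩ := Subgroup.card_subgroup_dvd_card ZK
      have hZF : (Nat.card ZK : F) ≠ 0 := fun h => hKF (by rw [he, Nat.cast_mul, h, zero_mul])
      exact Subtype.ext (hsumproj.resolve_left fun h => h.elim hZF hKF)
    have := LinearMap.finrank_le_finrank_of_injective hinj
    rwa [Module.finrank_pi_fintype, Finset.sum_const, Finset.card_univ, Fintype.card_coe,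
      smul_eq_mul] at this
  -- conclusion
  have hD : Module.finrank F (Module.End F M) = Module.finrank F M ^ 2 := by
    rw [Module.finrank_linearMap, sq]
  have he : 0 < Module.finrank F (commOps ρ K) := by
    have h1 : (1 : Module.End F M) ∈ commOps ρ K := mem_commOps.mpr fun u _ => by simp
    have : commOps ρ K ≠ ⊥ := fun h => by
      rw [h, Submodule.mem_bot] at h1
      exact one_ne_zero h1
    exact Nat.pos_of_ne_zero fun h => this (Submodule.finrank_eq_zero.mp h)
  have hN : Fintype.card (K ⧸ ZK) ≤ (r - 1) * R.card := by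
    refine Nat.le_of_mul_le_mul_right ?_ he
    calc _ ≤ Module.finrank F (Module.End F M) := hup
      _ ≤ (r - 1) * Module.finrank F U := hD ▸ hlow
      _ ≤ _ := by rw [mul_assoc]; exact Nat.mul_le_mul_left _ hfix
  have hdvd : r ∣ m ^ 2 - 1 := by
    haveI : Fact r.Prime := ⟨hr⟩
    have hmod := Equiv.Perm.card_compl_support_modEq (p := r) (n := 1) (σ := φ)
      (by rw [pow_one]; exact hφr)
    have hsupp : φ.supportᶜ = {1} := by
      ext a
      rw [Finset.mem_compl, Equiv.Perm.mem_support, not_not, Finset.mem_singleton]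
      refine ⟨fun ha => ?_, fun ha => by rw [ha]; show φf 1 = 1; exact map_one _⟩
      obtain ⟨k, rfl⟩ := QuotientGroup.mk_surjective a
      have h' : k⁻¹ * cx k ∈ ZK := QuotientGroup.eq.mp ha.symm
      exact (QuotientGroup.eq_one_iff k).mpr (Subgroup.mem_subgroupOf.mpr (hfree k k.2 h'))
    rw [hsupp, Finset.card_singleton, hA] at hmod
    exact (Nat.modEq_iff_dvd' (Nat.one_le_pow _ _ (by omega))).mp hmod
  rw [hA] at hN hRcard
  refine ⟨m, ?_, hm⟩
  obtain ⟨w, rfl⟩ : ∃ w, r = w + 1 := ⟨r - 1, by have := hr.pos; omega⟩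
  rw [Nat.add_sub_cancel] at hN
  have hmw : m ≤ w := by
    have h1 : 1 ≤ m ^ 2 := Nat.one_le_pow _ _ (by omega)
    obtain ⟨N, hN'⟩ : ∃ N, m ^ 2 = N + 1 := ⟨m ^ 2 - 1, by omega⟩
    rw [hN'] at hN hRcard
    rw [Nat.add_sub_cancel] at hRcard
    have h2 : (N + 1) * (w + 1) ≤ w * (N + (w + 1)) := by
      calc (N + 1) * (w + 1) ≤ w * R.card * (w + 1) := Nat.mul_le_mul_right _ hN
        _ = w * (R.card * (w + 1)) := mul_assoc _ _ _
        _ ≤ _ := Nat.mul_le_mul_left _ hRcard
    by_contra hlt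
    have h3 : (w + 1) ^ 2 ≤ m ^ 2 := Nat.pow_le_pow_left (by omega) 2
    nlinarith
  have hsq : m ^ 2 - 1 = (m + 1) * (m - 1) := by
    have := Nat.sq_sub_sq m 1
    simpa using this
  rw [hsq] at hdvd
  rcases hr.dvd_mul.mp hdvd with h | h
  · have := Nat.le_of_dvd (by omega) h
    omega
  · have := Nat.le_of_dvd (by omega) h
    omega

end CfsgLib.FpfModule
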