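import Cfsg.Agent.FpfModule.Bound
import Cfsg.Agent.OddOrder.BG3.Rfix0

/-!
# Fixed point free elements of prime order: the group level statement

`exists_index_eq_group`: if `X` of prime order `r` normalizes `Q` with `Z = Q ∩ C(Q) ≤ C(X)`,
`Q ∩ C(X) ≤ Z ≥ ⁅Q, Q⁆`, acts without fixed points on a faithful coprime module and the commutator
form of `Q / Z` is nondegenerate modulo every kernel, then `[Q : Z] = (r - 1) ^ 2`.
-/

set_option autoImplicit false
set_option linter.style.haveILetI false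

namespace CfsgLib.FpfModule

open Subgroup
open scoped commutatorElement

variable {G : Type*} [Group G] [Finite G]

/-- A faithful action on an elementary abelian subgroup, over an algebraically closed field. -/
theorem exists_rep (ℓ : ℕ) [Fact ℓ.Prime] {L V : Subgroup G} (hVc : IsMulCommutative V)
    (hVl : ∀ v ∈ V, v ^ ℓ = 1) (hLV : L ≤ normalizer (V : Set G))
    (hfaith : L ⊓ centralizer (V : Set G) = ⊥) :
    ∃ (n : ℕ) (ρ : L →* Module.End (AlgebraicClosure (ZMod ℓ)) (Fin n → AlgebraicClosure (ZMod ℓ))),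
      Function.Injective ρ ∧ ∀ (x : L) (r : ℕ), x ^ r = 1 →
        (∀ v ∈ V, (x : G) * v = v * x → v = 1) → ∑ i ∈ Finset.range r, ρ (x ^ i) = 0 := by
  classical
  letI : CommGroup V :=
    { (inferInstance : Group V) with mul_comm := fun a b => hVc.is_comm.comm a b }
  letI : MulDistribMulAction L V :=
    MulDistribMulAction.compHom V ((normalizerMonoidHom V).comp (inclusion hLV))
  have hact : ∀ (g : L) (w : V), ((g • w : V) : G) = (g : G) * w * (g : G)⁻¹ := fun g w => rfl
  obtain ⟨n, ρ, hρ, hsum⟩ := OddOrder.exists_faithful_rep_algClosure (X := L) (V := V) ℓ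
    (fun v => Subtype.ext (hVl v v.2)) fun g hg => Subtype.ext (by
      have hmem : (g : G) ∈ L ⊓ centralizer (V : Set G) := ⟨g.2, mem_centralizer_iff.2 fun v hv => by
        have h' := congrArg Subtype.val (hg ⟨v, hv⟩)
        rw [hact] at h'
        exact (mul_inv_eq_iff_eq_mul.1 h').symm⟩
      rwa [hfaith, mem_bot] at hmem)
  refine ⟨n, ρ, hρ, fun x r hxr hfix => hsum x r fun v => ?_⟩
  have hw : x • (∏ i ∈ Finset.range r, x ^ i • v) = ∏ i ∈ Finset.range r, x ^ i • v := by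
    rw [Finset.smul_prod']
    simp only [← mul_smul, ← pow_succ']
    have e := Finset.prod_range_succ' (fun i => x ^ i • v) r
    rw [Finset.prod_range_succ] at e
    simp only [hxr, pow_zero, one_smul] at e
    exact (mul_right_cancel e).symm
  have h' := congrArg Subtype.val hw
  rw [hact] at h'
  exact Subtype.ext (hfix _ (Subtype.mem _) (mul_inv_eq_iff_eq_mul.1 h'))

/-- An invariant subspace on which a given central element is nontrivial and central elements are
scalar. -/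
theorem exists_scalar_submodule {F : Type*} [Field F] [IsAlgClosed F] {W : Type*} [AddCommGroup W]
    [Module F W] [FiniteDimensional F W] {L : Type*} [Group L] [Finite L] (ρ : L →* Module.End F W)
    {z₀ : L} (hz₀ : ∀ y : L, y * z₀ = z₀ * y) (hne : ρ z₀ ≠ 1) (hF : (orderOf z₀ : F) ≠ 0) :
    ∃ (M : Submodule F W) (hM : ∀ g : L, ∀ u ∈ M, ρ g u ∈ M), Nontrivial M ∧
      (ρ z₀).restrict (hM z₀) ≠ 1 ∧
      ∀ z : L, (∀ y : L, y * z = z * y) → ∃ c : F, (ρ z).restrict (hM z) = c • 1 := by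
  classical
  haveI : NeZero (orderOf z₀) := ⟨(orderOf_pos z₀).ne'⟩
  obtain ⟨ι, hι, b, d, hd, -⟩ := OddOrder.exists_eigen_basis_of_pow_eq_one (s := ρ z₀) hF
    (by rw [← map_pow, pow_orderOf_eq_one, map_one])
  obtain ⟨i₀, hi₀⟩ : ∃ i, d i ≠ 1 := by
    by_contra hall
    push Not at hall
    exact hne (b.ext fun i => by simp [hd, hall])
  let E : Submodule F W := Module.End.eigenspace (ρ z₀) (d i₀)
  have hE0 : E ≠ ⊥ := fun h => by
    have : b i₀ ∈ E := Module.End.mem_eigenspace_iff.2 (hd i₀)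
    rw [h, Submodule.mem_bot] at this
    exact b.ne_zero i₀ this
  have hcomm : ∀ y z : L, y * z = z * y → ∀ u, ρ z (ρ y u) = ρ y (ρ z u) := fun y z h u => by
    rw [← Module.End.mul_apply, ← map_mul, ← h, map_mul, Module.End.mul_apply]
  have hEinv : ∀ y : L, ∀ u ∈ E, ρ y u ∈ E := fun y u hu => by
    rw [Module.End.mem_eigenspace_iff] at hu ⊢
    rw [hcomm y z₀ (hz₀ y), hu, map_smul]
  obtain ⟨M, ⟨hM0, hMle, hMinv⟩, hMmin⟩ := (wellFounded_lt (α := Submodule F W)).has_min
    {U | U ≠ ⊥ ∧ U ≤ E ∧ ∀ y : L, ∀ u ∈ U, ρ y u ∈ U} ⟨E, hE0, le_rfl, hEinv⟩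
  haveI : Nontrivial M := Submodule.nontrivial_iff_ne_bot.2 hM0
  refine ⟨M, hMinv, inferInstance, fun h => hi₀ ?_, fun z hz => ?_⟩
  · obtain ⟨w, hw⟩ := exists_ne (0 : M)
    have h1 := congrArg (fun m : M => (m : W)) (LinearMap.congr_fun h w)
    have h2 : ρ z₀ (w : W) = d i₀ • (w : W) := Module.End.mem_eigenspace_iff.1 (hMle w.2)
    exact smul_left_injective F (show (w : W) ≠ 0 by simpa using hw)
      (h2.symm.trans (h1.trans (one_smul _ _).symm))
  · set T : Module.End F M := (ρ z).restrict (hMinv z)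
    obtain ⟨μ, hμ⟩ := Module.End.exists_eigenvalue T
    refine ⟨μ, ?_⟩
    set U := (Module.End.eigenspace T μ).map M.subtype with hU
    have hUeq : U = M := by
      by_contra hne'
      refine hMmin U ⟨?_, (Submodule.map_subtype_le _ _).trans hMle, ?_⟩
        (lt_of_le_of_ne (Submodule.map_subtype_le _ _) hne')
      · intro h
        exact hμ (Submodule.map_injective_of_injective M.injective_subtype
          (h.trans (Submodule.map_bot _).symm))
      · rintro y _ ⟨u, hu, rfl⟩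
        refine ⟨⟨ρ y u, hMinv y _ u.2⟩, ?_, rfl⟩
        rw [SetLike.mem_coe, Module.End.mem_eigenspace_iff] at hu ⊢
        apply Subtype.ext
        show ρ z (ρ y (u : W)) = μ • ρ y (u : W)
        rw [hcomm y z (hz y), show ρ z (u : W) = μ • (u : W) from congrArg Subtype.val hu, map_smul]
    refine LinearMap.ext fun w => ?_
    have hw : (w : W) ∈ U := hUeq.symm ▸ w.2
    obtain ⟨u, hu, huw⟩ := hw
    rw [← M.injective_subtype huw, Module.End.mem_eigenspace_iff.1 hu]
    simp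

/-- The group level bound. -/
theorem exists_index_eq_group {ℓ r : ℕ} [Fact ℓ.Prime] (hr : r.Prime) (hℓr : ℓ ≠ r)
    (X Q V : Subgroup G) (hX : Nat.card X = r) (hQℓ : ¬ ℓ ∣ Nat.card Q)
    (hQr : ¬ r ∣ Nat.card Q) (hXQ : X ≤ normalizer (Q : Set G)) (hVc : IsMulCommutative V)
    (hVl : ∀ v ∈ V, v ^ ℓ = 1) (hXV : X ≤ normalizer (V : Set G)) (hQV : Q ≤ normalizer (V : Set G))
    (hfaith : (X ⊔ Q) ⊓ centralizer (V : Set G) = ⊥)
    (hCV : V ⊓ centralizer (X : Set G) = ⊥)
    (hZX : Q ⊓ centralizer (Q : Set G) ≤ centralizer (X : Set G))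
    (hCX : Q ⊓ centralizer (X : Set G) ≤ centralizer (Q : Set G))
    (hclass : ⁅Q, Q⁆ ≤ centralizer (Q : Set G))
    {z₀ : G} (hz₀ : z₀ ∈ ⁅Q, Q⁆) (hz₀1 : z₀ ≠ 1)
    (hnd : ∀ N : Subgroup G, X ≤ normalizer (N : Set G) → Q ≤ normalizer (N : Set G) → z₀ ∉ N →
      ∀ k ∈ Q, k ∉ centralizer (Q : Set G) → ∃ y ∈ Q, ⁅y, k⁆ ∉ N) :
    ∃ m : ℕ, r = m + 1 ∧ ((centralizer (Q : Set G)).subgroupOf Q).index = m ^ 2 := by
  classical
  have hQQ : ⁅Q, Q⁆ ≤ Q := commutator_le_self Q
  set Z := Q ⊓ centralizer (Q : Set G) with hZ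
  set L := X ⊔ Q with hL
  have hXL : X ≤ L := le_sup_left
  have hQL : Q ≤ L := le_sup_right
  have hcent : ∀ z ∈ Z, ∀ y ∈ L, y * z = z * y := by
    intro z hz y hy
    have : L ≤ centralizer ({z} : Set G) := sup_le
      (fun g hg => mem_centralizer_singleton_iff.2 (mem_centralizer_iff.1 (hZX hz) g hg))
      (fun g hg => mem_centralizer_singleton_iff.2 (mem_centralizer_iff.1 hz.2 g hg))
    exact mem_centralizer_singleton_iff.1 (this hy)
  obtain ⟨n, ρ, hρ, hsum⟩ := exists_rep ℓ hVc hVl (sup_le hXV hQV) hfaith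
  haveI : CharP (AlgebraicClosure (ZMod ℓ)) ℓ := inferInstance
  have hQF : ∀ {d : ℕ}, d ∣ Nat.card Q → (d : AlgebraicClosure (ZMod ℓ)) ≠ 0 := fun {d} hd => by
    rw [Ne, CharP.cast_eq_zero_iff _ ℓ]
    exact fun h => hQℓ (h.trans hd)
  let z' : L := ⟨z₀, hQL (hQQ hz₀)⟩
  obtain ⟨M, hM, hMn, hMz, hscal⟩ := exists_scalar_submodule ρ (z₀ := z')
    (fun y => Subtype.ext (hcent z₀ ⟨hQQ hz₀, hclass hz₀⟩ y y.2))
    (fun h => hz₀1 (congrArg Subtype.val (hρ (h.trans (map_one ρ).symm))))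
    (hQF (by rw [← Subgroup.orderOf_coe]; exact Subgroup.orderOf_dvd_natCard Q (hQQ hz₀)))
  let ρ₁ : L →* Module.End (AlgebraicClosure (ZMod ℓ)) M :=
    { toFun := fun g => (ρ g).restrict (hM g)
      map_one' := LinearMap.ext fun w => Subtype.ext (by simp)
      map_mul' := fun a c => LinearMap.ext fun w => Subtype.ext (by simp) }
  obtain ⟨x, hxX, hx1⟩ := (bot_or_exists_ne_one X).resolve_left fun h => hr.ne_one (by
    rw [← hX, h, card_bot])
  have hgen : zpowers x = X := OddOrder.zpowers_eq_of_card_prime (hX ▸ hr) hxX hx1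
  have hxr : x ^ r = 1 := by
    rw [← hX, ← hgen, Nat.card_zpowers, pow_orderOf_eq_one]
  have hfixV : ∀ v ∈ V, x * v = v * x → v = 1 := fun v hv h => by
    have hmem : v ∈ V ⊓ centralizer (X : Set G) := ⟨hv, by
      rw [← hgen]
      refine mem_centralizer_iff.2 fun g hg => ?_
      obtain ⟨i, rfl⟩ := mem_zpowers_iff.1 hg
      exact (Commute.zpow_left (h : Commute x v) i).eq⟩
    rwa [hCV, mem_bot] at hmem
  let x' : L := ⟨x, hXL hxX⟩
  have hsum' : ∑ i ∈ Finset.range r, ρ₁ (x' ^ i) = 0 := by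
    refine LinearMap.ext fun w => Subtype.ext ?_
    have h := LinearMap.congr_fun (hsum x' r (Subtype.ext hxr) hfixV)
      (w : Fin n → AlgebraicClosure (ZMod ℓ))
    rw [LinearMap.sum_apply] at h
    rw [LinearMap.sum_apply, Submodule.coe_sum]
    exact h
  have H : ScalarCentre ρ₁ (Q.subgroupOf L) (Z.subgroupOf L) :=
    ⟨fun k hk => mem_subgroupOf.2 (mem_subgroupOf.1 hk).1, fun a ha c hc => by
      have h : (a : G) * c * (a : G)⁻¹ * (c : G)⁻¹ ∈ ⁅Q, Q⁆ := by
        rw [← commutatorElement_def]; exact commutator_mem_commutator ha hc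
      exact mem_subgroupOf.2 ⟨hQQ h, hclass h⟩,
    fun z hz => hscal z fun y => Subtype.ext (hcent _ (mem_subgroupOf.1 hz) y y.2)⟩
  have hzQ : ∀ k : L, (k : G) ∈ Q → (k ∈ Z.subgroupOf L ↔ (k : G) ∈ centralizer (Q : Set G)) :=
    fun k hk => ⟨fun h => h.2, fun h => ⟨hk, h⟩⟩
  obtain ⟨m, hm, hidx⟩ := exists_index_eq ρ₁ (Q.subgroupOf L) (Z.subgroupOf L) x' hr
    (by rw [Ne, CharP.cast_eq_zero_iff _ ℓ, Nat.prime_dvd_prime_iff_eq Fact.out hr]; exact hℓr)
    (by rw [Nat.card_congr (subgroupOfEquivOfLe hQL).toEquiv]; exact hQF dvd_rfl)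
    (Subtype.ext hxr) hsum'
    (fun k hk => mem_subgroupOf.2 ((mem_normalizer_iff.1 (hXQ hxX) _).1 (mem_subgroupOf.1 hk)))
    (fun h => by
      have hle : Q ≤ centralizer (Q : Set G) := fun k hk =>
        ((hzQ ⟨k, hQL hk⟩ hk).1 (h ▸ mem_subgroupOf.2 hk))
      rw [← commutator_eq_bot_iff_le_centralizer] at hle
      rw [hle, mem_bot] at hz₀
      exact hz₀1 hz₀)
    H (fun z hz => Subtype.ext (hcent _ (mem_subgroupOf.1 hz) x (hXL hxX)))
    (fun k hk h => by
      rw [mem_subgroupOf] at hk h ⊢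
      set z : G := (k : G)⁻¹ * (x * k * x⁻¹) with hzdef
      have hzD : z ∈ Z := h
      have hxz : x * z = z * x := hcent z hzD x (hXL hxX)
      have hk' : x * (k : G) * x⁻¹ = k * z := by rw [hzdef, mul_inv_cancel_left]
      have hiter : ∀ j : ℕ, x ^ j * (k : G) * (x ^ j)⁻¹ = k * z ^ j := by
        intro j
        induction j with
        | zero => simp
        | succ j ih =>
          calc x ^ (j + 1) * (k : G) * (x ^ (j + 1))⁻¹ = x * (x ^ j * k * (x ^ j)⁻¹) * x⁻¹ := by
                rw [pow_succ']; group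
            _ = (x * k * x⁻¹) * (x * z ^ j * x⁻¹) := by rw [ih]; group
            _ = k * z * z ^ j := by
                rw [hk', (Commute.pow_right hxz j).eq, mul_inv_cancel_right]
            _ = k * z ^ (j + 1) := by rw [pow_succ', mul_assoc]
      have hzr : z ^ r = 1 := by
        have := hiter r
        rw [hxr] at this
        simpa using this
      have hz1 : z = 1 := by
        rcases (Nat.dvd_prime hr).1 (orderOf_dvd_of_pow_eq_one hzr) with ho | ho
        · exact orderOf_eq_one_iff.1 ho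
        · exact absurd (ho ▸ Subgroup.orderOf_dvd_natCard Q hzD.1) hQr
      rw [hz1, mul_one] at hk'
      refine ⟨hk, hCX ⟨hk, ?_⟩⟩
      rw [← hgen]
      refine mem_centralizer_iff.2 fun g hg => ?_
      obtain ⟨i, rfl⟩ := mem_zpowers_iff.1 hg
      exact (Commute.zpow_left (show Commute x (k : G) from mul_inv_eq_iff_eq_mul.1 hk') i).eq)
    (fun k hk hkZ => by
      rw [mem_subgroupOf] at hk
      let N : Subgroup G := ρ₁.ker.map L.subtype
      have hNn : L ≤ normalizer (N : Set G) := by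
        have h := Subgroup.le_normalizer_map L.subtype (H := ρ₁.ker)
        rw [Subgroup.normalizer_eq_top, ← MonoidHom.range_eq_map, range_subtype] at h
        exact h
      have hz₀N : z₀ ∉ N := by
        rintro ⟨g, hg, hgz⟩
        have : g = z' := Subtype.ext hgz
        exact hMz (this ▸ (MonoidHom.mem_ker.1 hg))
      obtain ⟨y, hy, hyN⟩ := hnd N (hXL.trans hNn) (hQL.trans hNn) hz₀N k hk
        fun h => hkZ ((hzQ k hk).2 h)
      refine ⟨⟨y, hQL hy⟩, mem_subgroupOf.2 hy, fun h => hyN ?_⟩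
      exact ⟨_, MonoidHom.mem_ker.2 h, by simp [commutatorElement_def]⟩)
  refine ⟨m, hm, ?_⟩
  rw [← hidx, ← Subgroup.relIndex, ← Subgroup.relIndex, ← inf_relIndex_left]
  show Z.relIndex Q = _
  exact (Subgroup.relIndex_subgroupOf hQL).symm

end CfsgLib.FpfModule
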