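import Cfsg.Agent.Solvable.FrobeniusBasic
import Mathlib.LinearAlgebra.BilinearForm.Orthogonal
import Mathlib.LinearAlgebra.Dual.Lemmas
import Mathlib.RingTheory.AdjoinRoot
import Mathlib.FieldTheory.Finite.GaloisField
import Mathlib.Algebra.CharP.Algebra

/-!
# Isometries without fixed points of a symplectic space over `ZMod p`

If `g` of order `h` acts freely and preserves a nondegenerate alternating form on a space of
dimension `2 n` over `ZMod p` then `p ^ n ≡ ±1 (mod h)`.
-/

set_option autoImplicit false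
set_option linter.unusedSectionVars false
set_option linter.style.haveILetI false

namespace CfsgLib.FpfModule.Symplectic

open Polynomial Module LinearMap.BilinForm

variable {p : ℕ} [hp : Fact p.Prime] {V : Type*} [AddCommGroup V] [Module (ZMod p) V]
  [FiniteDimensional (ZMod p) V]

/-- A fixed-point-free isometry of order dividing `h`. -/
structure FreeIsometry (p : ℕ) {V : Type*} [AddCommGroup V] [Module (ZMod p) V] (h : ℕ)
    (B : LinearMap.BilinForm (ZMod p) V) (g : Module.End (ZMod p) V) : Prop where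
  pow : g ^ h = 1
  free : ∀ i, 0 < i → i < h → ∀ v, (g ^ i) v = v → v = 0
  alt : B.IsAlt
  nondeg : B.Nondegenerate
  isom : ∀ x y, B (g x) (g y) = B x y

variable {h : ℕ} {B : LinearMap.BilinForm (ZMod p) V} {g : Module.End (ZMod p) V}

theorem pow_natCast_eq_one (H : FreeIsometry p h B g) (h0 : 0 < h) {W : Submodule (ZMod p) V}
    (hW : ∀ v ∈ W, g v ∈ W) : (p : ZMod h) ^ finrank (ZMod p) W = 1 := by
  set gW : Module.End (ZMod p) W := g.restrict hW
  have hpw : ∀ (i : ℕ) (w : W), ((gW ^ i) w : V) = (g ^ i) (w : V) := by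
    intro i
    induction i with
    | zero => intro w; rfl
    | succ i ih =>
      intro w
      rw [pow_succ, Module.End.mul_apply, ih, pow_succ, Module.End.mul_apply]
      rfl
  have hgh : gW ^ h = 1 := LinearMap.ext fun w => Subtype.ext (by rw [hpw, H.pow]; rfl)
  let u : (Module.End (ZMod p) W)ˣ := ⟨gW, gW ^ (h - 1),
    by rw [← pow_succ', Nat.sub_add_cancel h0, hgh],
    by rw [← pow_succ, Nat.sub_add_cancel h0, hgh]⟩
  haveI : Finite W := Module.finite_of_finite (ZMod p)
  rcases subsingleton_or_nontrivial W with hsub | hnt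
  · haveI := hsub
    rw [Module.finrank_zero_of_subsingleton, pow_zero]
  · haveI := hnt
    have hord : orderOf u = h := by
      refine (orderOf_eq_iff h0).mpr ⟨Units.ext (by rw [Units.val_pow_eq_pow_val]; exact hgh),
        fun i hi hi0 hu => ?_⟩
      obtain ⟨w, hw⟩ := exists_ne (0 : W)
      refine hw (Subtype.ext (H.free i hi0 hi w ?_))
      rw [← hpw]
      have h1 : gW ^ i = 1 := by
        have := congrArg Units.val hu
        rwa [Units.val_pow_eq_pow_val] at this
      rw [h1]; rfl
    letI : MulAction (Subgroup.zpowers u) W :=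
      { smul := fun m w => ((m : (Module.End (ZMod p) W)ˣ) : Module.End (ZMod p) W) w
        one_smul := fun _ => rfl
        mul_smul := fun _ _ _ => rfl }
    have hu_fin : IsOfFinOrder u := orderOf_pos_iff.mp (by omega)
    have hdvd := CfsgLib.Solvable.card_dvd_card_sub_one (M := Subgroup.zpowers u) (0 : W)
      (fun m => map_zero _) (fun w hw m hm => by
        obtain ⟨i, hi, hmi⟩ : ∃ i < h, u ^ i = m := by
          obtain ⟨i, hi⟩ := hu_fin.mem_powers_iff_mem_zpowers.mpr m.2
          exact ⟨i % h, Nat.mod_lt _ h0, by rw [← hord, pow_mod_orderOf]; exact hi⟩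
        rcases Nat.eq_zero_or_pos i with hi0 | hi0
        · subst hi0
          exact Subtype.ext hmi.symm
        · refine absurd (Subtype.ext (H.free i hi0 hi w ?_)) hw
          rw [← hpw]
          have : (gW ^ i) w = w := by
            rw [show gW ^ i = ((u ^ i : (Module.End (ZMod p) W)ˣ) : Module.End (ZMod p) W) from
              (Units.val_pow_eq_pow_val u i).symm, hmi]
            exact hm
          rw [this])
    rw [Nat.card_zpowers, hord, Module.natCard_eq_pow_finrank (K := ZMod p), Nat.card_zmod] at hdvd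
    have h1 : 1 ≤ p ^ finrank (ZMod p) W := Nat.one_le_pow _ _ hp.out.pos
    rw [← Nat.cast_pow, ← Nat.cast_one, ZMod.natCast_eq_natCast_iff]
    exact ((Nat.modEq_iff_dvd' h1).mpr hdvd).symm

theorem mul_adjoint (H : FreeIsometry p h B g) (h0 : 0 < h) (f : (ZMod p)[X]) (x y : V) :
    B (aeval g f x) y = B x (aeval (g ^ (h - 1)) f y) := by
  have hone : ∀ (a b : V), B (g a) b = B a ((g ^ (h - 1)) b) := fun a b => by
    conv_lhs => rw [show b = g ((g ^ (h - 1)) b) by
      rw [← Module.End.mul_apply, ← pow_succ', Nat.sub_add_cancel h0, H.pow]; rfl]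
    exact H.isom _ _
  induction f using Polynomial.induction_on' generalizing x y with
  | add p q hp' hq' => simp [hp', hq']
  | monomial n a =>
    have hn : ∀ (n : ℕ) (a b : V), B ((g ^ n) a) b = B a (((g ^ (h - 1)) ^ n) b) := by
      intro n
      induction n with
      | zero => intro a b; rfl
      | succ n ih =>
        intro a b
        rw [pow_succ', Module.End.mul_apply, hone, ih, pow_succ, Module.End.mul_apply]
    simp [aeval_monomial, hn, Algebra.algebraMap_eq_smul_one]

/-- In the irreducible nondegenerate case `-1` is a power of `p`. -/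
theorem exists_pow_eq_neg_one (H : FreeIsometry p h B g) (h0 : 0 < h) {R W : Submodule (ZMod p) V}
    (hR : ∀ v ∈ R, g v ∈ R) (hW : ∀ v ∈ W, g v ∈ W) (hlt : R < W)
    (hmin : ∀ U : Submodule (ZMod p) V, (∀ v ∈ U, g v ∈ U) → R ≤ U → U < W → U = R)
    (hrad : W ⊓ B.orthogonal W = R) : ∃ i : ℕ, (p : ZMod h) ^ i = -1 := by
  classical
  have hgp : ∀ (S : Submodule (ZMod p) V), (∀ v ∈ S, g v ∈ S) → ∀ (f : (ZMod p)[X]), ∀ v ∈ S,
      aeval g f v ∈ S := fun S hS f v hv => by
    induction f using Polynomial.induction_on' with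
    | add p q hp' hq' => rw [map_add, LinearMap.add_apply]; exact S.add_mem hp' hq'
    | monomial n a =>
      rw [aeval_monomial, Algebra.algebraMap_eq_smul_one, smul_mul_assoc, one_mul,
        LinearMap.smul_apply]
      refine S.smul_mem a ?_
      induction n with
      | zero => exact hv
      | succ n ih => rw [pow_succ', Module.End.mul_apply]; exact hS _ ih
  let I : Ideal (ZMod p)[X] :=
    { carrier := {f | ∀ v ∈ W, aeval g f v ∈ R}
      add_mem' := fun {a b} ha hb v hv => by
        rw [map_add, LinearMap.add_apply]; exact R.add_mem (ha v hv) (hb v hv)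
      zero_mem' := fun v _ => by rw [map_zero, LinearMap.zero_apply]; exact R.zero_mem
      smul_mem' := fun c f hf v hv => by
        rw [smul_eq_mul, map_mul, Module.End.mul_apply]; exact hgp R hR c _ (hf v hv) }
  have hI : ∀ f, f ∈ I ↔ ∀ v ∈ W, aeval g f v ∈ R := fun f => Iff.rfl
  have hprime : I.IsPrime := by
    refine ⟨fun htop => hlt.ne (le_antisymm hlt.le fun v hv => ?_), fun {a b} hab => ?_⟩
    · have := (hI 1).mp (htop ▸ Submodule.mem_top) v hv
      rwa [map_one] at this
    · rcases (lt_or_eq_of_le (show W ⊓ R.comap (aeval g a) ≤ W from inf_le_left)) with hl | he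
      · right
        have hcomm : ∀ v, aeval g a (g v) = g (aeval g a v) := fun v => by
          have hc : aeval g (a * X) = aeval g (X * a) := by rw [mul_comm]
          rw [map_mul, map_mul, aeval_X] at hc
          exact LinearMap.congr_fun hc v
        have heq := hmin (W ⊓ R.comap (aeval g a)) (fun v hv => ⟨hW v hv.1, by
          show aeval g a (g v) ∈ R
          rw [hcomm]; exact hR _ hv.2⟩) (le_inf hlt.le fun v hv => hgp R hR a v hv) hl
        intro v hv
        rw [← heq]
        refine ⟨hgp W hW b v hv, ?_⟩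
        show aeval g a (aeval g b v) ∈ R
        rw [← Module.End.mul_apply, ← map_mul]; exact hab v hv
      · exact Or.inl fun v hv => (he.symm ▸ hv : v ∈ W ⊓ R.comap (aeval g a)).2
  obtain ⟨μ, hμ⟩ := (IsPrincipalIdealRing.principal I).principal
  have hμI : ∀ f, f ∈ I ↔ μ ∣ f := fun f => by
    rw [hμ]; exact Ideal.mem_span_singleton
  have hXh : (X ^ h - 1 : (ZMod p)[X]) ∈ I := fun v _ => by
    rw [map_sub, map_pow, aeval_X, map_one, H.pow, sub_self, LinearMap.zero_apply]
    exact R.zero_mem
  have hμ0 : μ ≠ 0 := by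
    rintro rfl
    have h1 := zero_dvd_iff.mp ((hμI _).mp hXh)
    exact X_pow_sub_C_ne_zero h0 (1 : ZMod p) (by rw [map_one]; exact h1)
  have hirr : Irreducible μ := by
    refine (Ideal.span_singleton_prime hμ0).mp ?_ |>.irreducible
    rw [show Ideal.span {μ} = I from hμ.symm]; exact hprime
  haveI : Fact (Irreducible μ) := ⟨hirr⟩
  let E := AdjoinRoot μ
  haveI : FiniteDimensional (ZMod p) E := (AdjoinRoot.powerBasis hμ0).finite
  haveI : Finite E := Module.finite_of_finite (ZMod p)
  let lam : E := AdjoinRoot.root μ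
  have heval : ∀ f, aeval lam f = 0 ↔ f ∈ I := fun f => by
    rw [AdjoinRoot.aeval_eq, AdjoinRoot.mk_eq_zero, hμI]
  have hlh : lam ^ h = 1 := by
    have := (heval _).mpr hXh
    rw [map_sub, map_pow, aeval_X, map_one, sub_eq_zero] at this
    exact this
  have hne : ∀ i, 0 < i → i < h → lam ^ i ≠ 1 := fun i hi0 hi hl => by
    have hmem : (X ^ i - 1 : (ZMod p)[X]) ∈ I := (heval _).mp (by
      rw [map_sub, map_pow, aeval_X, map_one, hl, sub_self])
    obtain ⟨v, hvW, hvR⟩ := SetLike.exists_of_lt hlt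
    have hgR : ∀ r ∈ R, (g ^ i - 1) r ∈ R := fun r hr => by
      have := hgp R hR (X ^ i - 1) r hr
      rwa [map_sub, map_pow, aeval_X, map_one] at this
    have hsurj : Function.Surjective ((g ^ i - 1).restrict hgR) := by
      rw [← LinearMap.injective_iff_surjective, ← LinearMap.ker_eq_bot, LinearMap.ker_eq_bot']
      intro r hr
      have h1 : (g ^ i) (r : V) - r = 0 := congrArg Subtype.val hr
      exact Subtype.ext (H.free i hi0 hi _ (sub_eq_zero.mp h1))
    have hv' := (hI _).mp hmem v hvW
    rw [map_sub, map_pow, aeval_X, map_one] at hv'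
    obtain ⟨r, hr⟩ := hsurj ⟨_, hv'⟩
    have h1 : (g ^ i - 1) (r : V) = (g ^ i - 1) v := congrArg Subtype.val hr
    rw [← sub_eq_zero, ← map_sub, LinearMap.sub_apply, Module.End.one_apply, sub_eq_zero] at h1
    have := H.free i hi0 hi _ h1
    exact hvR (sub_eq_zero.mp this ▸ r.2)
  have hroot : aeval (lam ^ (h - 1)) μ = 0 := by
    have hμmem : μ ∈ I := (hμI μ).mpr dvd_rfl
    have hadj : (μ.comp (X ^ (h - 1)) : (ZMod p)[X]) ∈ I := by
      intro v hv
      rw [← hrad]
      refine ⟨hgp W hW _ v hv, fun w hw => ?_⟩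
      rw [aeval_comp, map_pow, aeval_X, ← mul_adjoint H h0]
      have h1 : aeval g μ w ∈ W ⊓ B.orthogonal W := by rw [hrad]; exact (hI μ).mp hμmem w hw
      exact H.alt.isRefl _ _ (h1.2 v hv)
    have := (heval _).mpr hadj
    rwa [aeval_comp, map_pow, aeval_X] at this
  let σ : E →ₐ[ZMod p] E := AdjoinRoot.liftAlgHom μ (Algebra.ofId (ZMod p) E) (lam ^ (h - 1))
    (by simpa [aeval_def] using hroot)
  have hσ : σ lam = lam ^ (h - 1) := AdjoinRoot.liftAlgHom_root _ _ _ _
  have hbij : Function.Bijective σ := by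
    have hinj : Function.Injective σ := σ.toRingHom.injective
    exact ⟨hinj, Finite.injective_iff_surjective.mp hinj⟩
  obtain ⟨i, hi⟩ := (FiniteField.bijective_frobeniusAlgEquivOfAlgebraic_pow (ZMod p) E).2
    (AlgEquiv.ofBijective σ hbij)
  refine ⟨i.1, ?_⟩
  have h1 := DFunLike.congr_fun hi lam
  simp only [AlgEquiv.coe_pow, FiniteField.coe_frobeniusAlgEquivOfAlgebraic, pow_iterate,
    Fintype.card_eq_nat_card, Nat.card_zmod, AlgEquiv.coe_ofBijective, hσ] at h1
  have hord : orderOf lam = h := (orderOf_eq_iff h0).mpr ⟨hlh, fun j hj hj0 => hne j hj0 hj⟩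
  have h2 : lam ^ (p ^ i.1 + 1) = 1 := by
    rw [pow_succ, h1, ← pow_succ, Nat.sub_add_cancel h0, hlh]
  have h3 := orderOf_dvd_of_pow_eq_one h2
  rw [hord, ← ZMod.natCast_eq_zero_iff, Nat.cast_add, Nat.cast_pow, Nat.cast_one,
    add_eq_zero_iff_eq_neg] at h3
  exact h3

/-- If `-1` is a power of `a` and `a ^ e = 1` then `e` is even and `a ^ (e / 2) = ±1`. -/
theorem exists_half {a : ZMod h} (h3 : 3 ≤ h) {i e : ℕ} (hi : a ^ i = -1) (he : a ^ e = 1) :
    ∃ f, e = 2 * f ∧ (a ^ f = 1 ∨ a ^ f = -1) := by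
  haveI : Fact (2 < h) := ⟨h3⟩
  have hne : (-1 : ZMod h) ≠ 1 := ZMod.neg_one_ne_one
  have h2i : orderOf a ∣ 2 * i := orderOf_dvd_of_pow_eq_one (by
    rw [mul_comm, pow_mul, hi, neg_one_sq])
  have hni : ¬ orderOf a ∣ i := fun hd => hne (hi ▸ orderOf_dvd_iff_pow_eq_one.mp hd)
  have heven : 2 ∣ orderOf a := by
    by_contra hodd
    exact hni ((Nat.prime_two.coprime_iff_not_dvd.mpr hodd).symm.dvd_of_dvd_mul_left h2i)
  obtain ⟨c, hc⟩ := heven
  obtain ⟨u, hu⟩ := h2i
  obtain ⟨w, hw⟩ := orderOf_dvd_of_pow_eq_one he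
  have hiu : i = c * u := by
    rw [hc, mul_assoc] at hu; omega
  have hodd : Odd u := by
    rw [← Nat.not_even_iff_odd]
    rintro ⟨t, rfl⟩
    exact hni ⟨t, by rw [hiu, hc]; ring⟩
  have hcc : (a ^ c) ^ 2 = 1 := by rw [← pow_mul, mul_comm, ← hc, pow_orderOf_eq_one]
  have hac : a ^ c = -1 := by
    obtain ⟨t, rfl⟩ := hodd
    rwa [hiu, pow_mul, pow_succ, pow_mul, hcc, one_pow, one_mul] at hi
  refine ⟨c * w, by rw [hw, hc]; ring, ?_⟩
  rw [pow_mul, hac]
  exact neg_one_pow_eq_or _ _

theorem orthogonal_invariant (H : FreeIsometry p h B g) (h0 : 0 < h) {S : Submodule (ZMod p) V}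
    (hS : ∀ v ∈ S, g v ∈ S) : ∀ v ∈ B.orthogonal S, g v ∈ B.orthogonal S := by
  intro v hv s hs
  have hpow : ∀ n, ∀ x ∈ S, (g ^ n) x ∈ S := by
    intro n
    induction n with
    | zero => intro x hx; exact hx
    | succ n ih => intro x hx; rw [pow_succ', Module.End.mul_apply]; exact hS _ (ih x hx)
  have e : s = g ((g ^ (h - 1)) s) := by
    rw [← Module.End.mul_apply, ← pow_succ', Nat.sub_add_cancel h0, H.pow]; rfl
  show B s (g v) = 0
  rw [e, H.isom]
  exact hv _ (hpow _ s hs)

theorem main_induction (H : FreeIsometry p h B g) (h3 : 3 ≤ h) :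
    ∀ (n : ℕ) (U : Submodule (ZMod p) V), finrank (ZMod p) U ≤ n → (∀ v ∈ U, g v ∈ U) →
      ∀ k, finrank (ZMod p) U = finrank (ZMod p) (U ⊓ B.orthogonal U : Submodule (ZMod p) V) + 2 * k →
        (p : ZMod h) ^ k = 1 ∨ (p : ZMod h) ^ k = -1 := by
  have h0 : 0 < h := by omega
  intro n
  induction n with
  | zero =>
    intro U hn _ k hk
    exact Or.inl (by rw [show k = 0 by omega, pow_zero])
  | succ n ih =>
    intro U hn hU k hk
    set R := U ⊓ B.orthogonal U with hRdef
    have hR : ∀ v ∈ R, g v ∈ R := fun v hv =>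
      ⟨hU v hv.1, orthogonal_invariant H h0 hU v hv.2⟩
    rcases eq_or_lt_of_le (inf_le_left : R ≤ U) with he | hlt
    · have heq : finrank (ZMod p) R = finrank (ZMod p) U :=
        congrArg (fun S : Submodule (ZMod p) V => finrank (ZMod p) S) he
      exact Or.inl (by rw [show k = 0 by omega, pow_zero])
    obtain ⟨W, ⟨hW, hRW, hWU⟩, hWmin⟩ := (wellFounded_lt (α := Submodule (ZMod p) V)).has_min
      {W | (∀ v ∈ W, g v ∈ W) ∧ R < W ∧ W ≤ U} ⟨U, hU, hlt, le_rfl⟩
    have hmin : ∀ S : Submodule (ZMod p) V, (∀ v ∈ S, g v ∈ S) → R ≤ S → S < W → S = R :=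
      fun S hS hRS hSW => hRS.eq_or_lt.elim Eq.symm fun hlt' =>
        absurd hSW (hWmin S ⟨hS, hlt', hSW.le.trans hWU⟩)
    have hrefl := H.alt.isRefl
    have hperp := orthogonal_orthogonal H.nondeg hrefl
    set U' := U ⊓ B.orthogonal W with hU'def
    have hU' : ∀ v ∈ U', g v ∈ U' := fun v hv => ⟨hU v hv.1, orthogonal_invariant H h0 hW v hv.2⟩
    -- `dim U' = dim U - (dim W - dim R)`
    have hWR : W ⊓ B.orthogonal U = R := le_antisymm
      (inf_le_inf_right _ hWU) (le_inf hRW.le inf_le_right)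
    have hmem : ∀ {S T : Submodule (ZMod p) V}, B.orthogonal (S ⊔ T) = B.orthogonal S ⊓ B.orthogonal T :=
      fun {S T} => le_antisymm
        (le_inf (orthogonal_le le_sup_left) (orthogonal_le le_sup_right)) fun v hv x hx => by
          obtain ⟨a, ha, b, hb, rfl⟩ := Submodule.mem_sup.mp hx
          rw [map_add, LinearMap.add_apply, hv.1 a ha, hv.2 b hb, add_zero]
    have hdim : finrank (ZMod p) U' + finrank (ZMod p) W = finrank (ZMod p) U + finrank (ZMod p) R := by
      have e1 : U' = B.orthogonal (B.orthogonal U ⊔ W) := by rw [hmem, hperp]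
      have e2 := Submodule.finrank_sup_add_finrank_inf_eq (B.orthogonal U) W
      rw [inf_comm, hWR, finrank_orthogonal H.nondeg] at e2
      have e3 := Submodule.finrank_le (B.orthogonal U ⊔ W)
      have e4 := Submodule.finrank_le U
      rw [e1, finrank_orthogonal H.nondeg]
      omega
    have hrad' : U' ⊓ B.orthogonal U' = U ⊓ B.orthogonal W ⊓ (B.orthogonal U ⊔ W) := by
      rw [show B.orthogonal U' = B.orthogonal U ⊔ W by
        rw [show U' = B.orthogonal (B.orthogonal U ⊔ W) by rw [hmem, hperp], hperp]]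
    have hRlt : finrank (ZMod p) R < finrank (ZMod p) W := Submodule.finrank_lt_finrank_of_lt hRW
    have hpow : (p : ZMod h) ^ (finrank (ZMod p) W - finrank (ZMod p) R) = 1 := by
      have h1 := pow_natCast_eq_one H h0 hW
      rw [show finrank (ZMod p) W =
        (finrank (ZMod p) W - finrank (ZMod p) R) + finrank (ZMod p) R by omega, pow_add,
        pow_natCast_eq_one H h0 hR, mul_one] at h1
      exact h1
    have hle : finrank (ZMod p) U' ≤ n := by omega
    have hWR' : R ≤ W ⊓ B.orthogonal W :=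
      le_inf hRW.le (inf_le_right.trans (orthogonal_le hWU))
    rcases eq_or_lt_of_le (inf_le_left : W ⊓ B.orthogonal W ≤ W) with hiso | hnd
    · -- totally isotropic
      have hrad : U' ⊓ B.orthogonal U' = W := by
        rw [hrad']
        refine le_antisymm ?_ (le_inf (le_inf hWU (hiso.symm.le.trans inf_le_right)) le_sup_right)
        rintro x ⟨hx1, hx2⟩
        obtain ⟨a, ha, b, hb, rfl⟩ := Submodule.mem_sup.mp hx2
        refine W.add_mem (hRW.le ⟨?_, ha⟩) hb
        have := U.sub_mem hx1.1 (hWU hb)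
        rwa [add_sub_cancel_right] at this
      have heq := congrArg (fun S : Submodule (ZMod p) V => finrank (ZMod p) S) hrad
      obtain ⟨k', hk'⟩ : ∃ k', k = (finrank (ZMod p) W - finrank (ZMod p) R) + k' := by
        have h5 := Submodule.finrank_mono (show W ≤ U' from le_inf hWU (hiso.symm.le.trans inf_le_right))
        exact ⟨k - (finrank (ZMod p) W - finrank (ZMod p) R), by omega⟩
      rw [hk', pow_add, hpow, one_mul]
      exact ih U' hle hU' k' (by omega)
    · -- nondegenerate
      have hWW : W ⊓ B.orthogonal W = R := hmin _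
        (fun v hv => ⟨hW v hv.1, orthogonal_invariant H h0 hW v hv.2⟩) hWR' hnd
      obtain ⟨i, hi⟩ := exists_pow_eq_neg_one H h0 hR hW hRW hmin hWW
      obtain ⟨f, hf, hsign⟩ := exists_half h3 hi hpow
      have hrad : U' ⊓ B.orthogonal U' = R := by
        rw [hrad']
        refine le_antisymm ?_ (le_inf (le_inf inf_le_left (inf_le_right.trans (orthogonal_le hWU)))
          (inf_le_right.trans le_sup_left))
        rintro x ⟨hx1, hx2⟩
        obtain ⟨a, ha, b, hb, rfl⟩ := Submodule.mem_sup.mp hx2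
        have haU : a ∈ U := by
          have := U.sub_mem hx1.1 (hWU hb)
          rwa [add_sub_cancel_right] at this
        rw [← hWW]
        refine ⟨W.add_mem (hRW.le ⟨haU, ha⟩) hb, hx1.2⟩
      have heq := congrArg (fun S : Submodule (ZMod p) V => finrank (ZMod p) S) hrad
      obtain ⟨k', hk'⟩ : ∃ k', k = f + k' := by
        have h5 := Submodule.finrank_mono (show R ≤ U' from
          le_inf inf_le_left (inf_le_right.trans (orthogonal_le hWU)))
        exact ⟨k - f, by omega⟩
      have hrec := ih U' hle hU' k' (by omega)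
      rw [hk', pow_add]
      rcases hsign with h1 | h1 <;> rcases hrec with h2 | h2 <;> simp [h1, h2]

/-- `p ^ n ≡ ±1` for a free isometry of a space of dimension `2 n`. -/
theorem pow_eq_or (H : FreeIsometry p h B g) (h0 : 0 < h) {n : ℕ}
    (hn : finrank (ZMod p) V = 2 * n) : (p : ZMod h) ^ n = 1 ∨ (p : ZMod h) ^ n = -1 := by
  rcases Nat.lt_or_ge h 3 with hh | hh
  · rcases Nat.eq_zero_or_pos n with rfl | hn0
    · exact Or.inl (pow_zero _)
    have h1 := pow_natCast_eq_one H h0 (W := (⊤ : Submodule (ZMod p) V)) (fun v _ => Submodule.mem_top)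
    rw [finrank_top, hn, pow_mul] at h1
    left
    rw [← pow_mul] at h1
    have hu : IsUnit (p : ZMod h) := IsUnit.of_pow_eq_one h1 (by omega)
    have : ∀ a : ZMod h, IsUnit a → a = 1 := by
      interval_cases h <;> decide
    exact this _ (hu.pow n)
  · refine main_induction H hh _ ⊤ le_rfl (fun v _ => Submodule.mem_top) n ?_
    rw [orthogonal_top_eq_bot H.nondeg, inf_bot_eq, finrank_bot, finrank_top, hn, zero_add]

end CfsgLib.FpfModule.Symplectic
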